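import Mathlib

/-!
# Integral closures in étale algebras receiving maps to smooth algebras are étale

If `R` is a Dedekind domain with fraction field `K`, `L` a finite étale `K`-algebra, `O` the integral closure of `R` in
`L` and `B` a smooth `R`-algebra, then every `K`-map `L → B ⊗ K` comes from a map `O → B` and `O` is étale over `R` at
the image of every prime of `B`.
-/

set_option autoImplicit false

universe u

open TensorProduct

namespace Groth.Agent.NeronEtale

section Finite

variable (R : Type u) [CommRing R] [IsDedekindDomain R] (L : Type u) [CommRing L]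
  [Algebra (FractionRing R) L] [Algebra R L] [IsScalarTower R (FractionRing R) L]
  [Algebra.Etale (FractionRing R) L]

theorem finite_closure : Module.Finite R (integralClosure R L) := by
  obtain ⟨I, _, A, _, _, e, hA⟩ := (Algebra.Etale.iff_exists_algEquiv_prod (FractionRing R) L).mp ‹Algebra.Etale (FractionRing R) L›
  letI : ∀ i, Algebra R (A i) := fun i => ((algebraMap (FractionRing R) (A i)).comp (algebraMap R _)).toAlgebra
  haveI : ∀ i, IsScalarTower R (FractionRing R) (A i) := fun i => IsScalarTower.of_algebraMap_eq' rfl
  haveI : ∀ i, Module.Finite R (integralClosure R (A i)) := fun i => by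
    have := (hA i).1
    have := (hA i).2
    exact IsIntegralClosure.finite R (FractionRing R) (A i) _
  haveI : ∀ i, IsNoetherian R (integralClosure R (A i)) := fun i => inferInstance
  let p : ∀ i, L →ₐ[R] A i := fun i => ((Pi.evalAlgHom (FractionRing R) A i).comp e.toAlgHom).restrictScalars R
  let f : integralClosure R L →ₗ[R] (Π i, integralClosure R (A i)) :=
    LinearMap.pi fun i => (((p i).comp (integralClosure R L).val).codRestrict (integralClosure R (A i))
      fun x => x.2.map (p i)).toLinearMap
  refine Module.Finite.of_injective f fun x y h => Subtype.ext (e.injective (funext fun i => ?_))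
  exact congrArg Subtype.val (congrFun h i)

theorem flat_closure : Module.Flat R (integralClosure R L) := by
  have : Module.IsTorsionFree R L := by
    have : Module.IsTorsionFree (FractionRing R) L := inferInstance
    exact Module.isTorsionFree_iff_smul_eq_zero.mpr fun r x h => by
      rw [← algebraMap_smul (FractionRing R) r x] at h
      exact (smul_eq_zero.mp h).imp (fun h => (map_eq_zero_iff _ (IsFractionRing.injective R _)).mp h) id
  have : Module.IsTorsionFree R (integralClosure R L) := inferInstance
  rw [IsDedekindDomain.flat_iff_torsion_eq_bot, ← Submodule.isTorsionFree_iff_torsion_eq_bot]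
  infer_instance

theorem finitePresentation_closure : Algebra.FinitePresentation R (integralClosure R L) := by
  have := finite_closure R L
  exact Algebra.FinitePresentation.of_finiteType.mp inferInstance

/-- elements of `L` have denominators in `R` -/
theorem exists_smul_mem (x : L) : ∃ r ∈ nonZeroDivisors R, IsIntegral R (r • x) := by
  have := Algebra.FormallyUnramified.finite_of_free (FractionRing R) L
  obtain ⟨⟨r, hr⟩, h⟩ := IsIntegral.exists_multiple_integral_of_isLocalization (nonZeroDivisors R) x
    (Algebra.IsIntegral.isIntegral (R := FractionRing R) x)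
  exact ⟨r, hr, h⟩

end Finite

section Point

variable {R : Type u} [CommRing R] {K : Type u} [CommRing K] [Algebra R K]
  {L : Type u} [CommRing L] [Algebra R L] [Algebra K L] [IsScalarTower R K L]
  (M : Submonoid R) [IsLocalization M K] [Algebra.EssFiniteType K L] [Algebra.FormallyUnramified K L]
  {B : Type u} [CommRing B] [Algebra R B]

theorem includeLeft_injective [Module.Flat R B] (hM : M ≤ nonZeroDivisors R) :
    Function.Injective (Algebra.TensorProduct.includeLeft : B →ₐ[R] B ⊗[R] K) := by
  intro a b h
  have hi : Function.Injective (algebraMap R K) := IsLocalization.injective K hM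
  apply (TensorProduct.rid R B).symm.injective
  refine Module.Flat.lTensor_preserves_injective_linearMap (M := B) (Algebra.linearMap R K) hi ?_
  simpa using h

include M in
/-- A derivation of the integral closure into a module over a smooth algebra receiving it vanishes. -/
theorem derivation_eq_zero [Algebra.Smooth R B] (hM : M ≤ nonZeroDivisors R) (φ : L →ₐ[R] B ⊗[R] K)
    (ψ : integralClosure R L →ₐ[R] B) (hψ : ∀ x, φ x.1 = ψ x ⊗ₜ 1)
    {N : Type u} [AddCommGroup N] [Module B N] [Module R N] [IsScalarTower R B N]
    (D : integralClosure R L →ₗ[R] N) (hD : ∀ x y, D (x * y) = ψ x • D y + ψ y • D x)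
    (x : integralClosure R L) : D x = 0 := by
  classical
  let O := integralClosure R L
  let ι : K →ₐ[R] L := IsScalarTower.toAlgHom R K L
  let J : B ⊗[R] K →ₐ[B] B ⊗[R] L := Algebra.TensorProduct.map (AlgHom.id B B) ι
  let Φ : B ⊗[R] L →ₐ[B] B ⊗[R] K := Algebra.TensorProduct.lift (Algebra.ofId B _) φ fun _ _ => Commute.all _ _
  have hφK : φ.comp ι = Algebra.TensorProduct.includeRight :=
    AlgHom.coe_ringHom_injective (IsLocalization.ringHom_ext M (by
      ext r
      exact ((φ.comp ι).commutes r).trans
        ((Algebra.TensorProduct.includeRight : K →ₐ[R] B ⊗[R] K).commutes r).symm))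
  have hΦJ : ∀ y, Φ (J y) = y := by
    intro y
    induction y with
    | zero => simp
    | add a b ha hb => rw [map_add, map_add, ha, hb]
    | tmul b c =>
      rw [Algebra.TensorProduct.map_tmul, Algebra.TensorProduct.lift_tmul]
      change (Algebra.ofId B (B ⊗[R] K)) b * (φ.comp ι) c = _
      rw [hφK, Algebra.TensorProduct.includeRight_apply]
      change (b ⊗ₜ[R] (1 : K)) * ((1 : B) ⊗ₜ[R] c) = _
      simp
  -- the separability idempotent
  letI : Algebra K (B ⊗[R] L) := ((Algebra.TensorProduct.includeRight : L →ₐ[R] B ⊗[R] L).toRingHom.comp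
    (algebraMap K L)).toAlgebra
  let g₁ : L →ₐ[K] B ⊗[R] L :=
    { toRingHom := (Algebra.TensorProduct.includeRight : L →ₐ[R] B ⊗[R] L).toRingHom
      commutes' := fun _ => rfl }
  let g₂ : L →ₐ[K] B ⊗[R] L :=
    { toRingHom := J.toRingHom.comp φ.toRingHom
      commutes' := fun c => by
        change J ((φ.comp ι) c) = (1 : B) ⊗ₜ[R] algebraMap K L c
        rw [hφK]
        simp [J, ι] }
  let α : L ⊗[K] L →ₐ[K] B ⊗[R] L := Algebra.TensorProduct.lift g₂ g₁ fun _ _ => Commute.all _ _
  obtain ⟨t, ht, ht1⟩ := (Algebra.FormallyUnramified.iff_exists_tensorProduct (R := K) (S := L)).mp inferInstance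
  let e := α t
  have hΦe : Φ e = 1 := by
    have : ∀ z : L ⊗[K] L, Φ (α z) = φ (Algebra.TensorProduct.lmul' K z) := by
      intro z
      induction z with
      | zero => simp
      | add a b ha hb => simp only [map_add, ha, hb]
      | tmul a b =>
        rw [Algebra.TensorProduct.lift_tmul, map_mul, Algebra.TensorProduct.lmul'_apply_tmul, map_mul]
        congr 1
        · exact hΦJ (φ a)
        · exact (Algebra.TensorProduct.lift_tmul _ _ _ _ _).trans
            (by rw [map_one, one_mul])
    rw [show Φ e = φ (Algebra.TensorProduct.lmul' K t) from this t, ht1, map_one]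
  have he : ∀ z, e * z = e * J (Φ z) := by
    intro z
    induction z with
    | zero => simp
    | add a b ha hb => rw [map_add, map_add, mul_add, mul_add, ha, hb]
    | tmul b l =>
      have h := congrArg α (ht l)
      rw [map_mul, map_sub, Algebra.TensorProduct.lift_tmul, Algebra.TensorProduct.lift_tmul, map_zero,
        map_one, map_one, one_mul, mul_one, sub_mul, sub_eq_zero] at h
      rw [Algebra.TensorProduct.lift_tmul, map_mul]
      change e * (b ⊗ₜ[R] l) = e * (J (b ⊗ₜ[R] (1 : K)) * J (φ l))
      have hb : (b ⊗ₜ[R] l : B ⊗[R] L) = J (b ⊗ₜ[R] (1 : K)) * g₁ l := by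
        simp [J, g₁, ι]
      rw [hb, mul_left_comm, mul_left_comm e, mul_comm e, mul_comm e]
      exact congrArg _ h
  have hidem : e * e = e := by rw [he e, hΦe, map_one, mul_one]
  have hint : IsIntegral B e := ⟨Polynomial.X ^ 2 - Polynomial.X, Polynomial.monic_X_pow_sub (Polynomial.degree_X_le.trans_lt (by decide)), by
    simp [sq, hidem]⟩
  obtain ⟨e₀, he₀⟩ := (TensorProduct.toIntegralClosure_bijective_of_smooth (R := R) (S := B) (B := L)).2 ⟨e, hint⟩
  let incl : B ⊗[R] O →ₐ[B] B ⊗[R] L := Algebra.TensorProduct.map (AlgHom.id B B) O.val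
  have hincl : Function.Injective incl :=
    Module.Flat.lTensor_preserves_injective_linearMap (M := B) O.val.toLinearMap Subtype.val_injective
  have he₀' : incl e₀ = e := congrArg Subtype.val he₀
  let Ψ : B ⊗[R] O →ₐ[B] B := Algebra.TensorProduct.lift (AlgHom.id B B) ψ fun _ _ => Commute.all _ _
  have hΨ : ∀ y, Φ (incl y) = Ψ y ⊗ₜ 1 := by
    intro y
    induction y with
    | zero => simp
    | add a b ha hb => simp only [map_add, ha, hb, TensorProduct.add_tmul]
    | tmul b c =>
      rw [Algebra.TensorProduct.map_tmul, Algebra.TensorProduct.lift_tmul, Algebra.TensorProduct.lift_tmul]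
      change (b ⊗ₜ[R] (1 : K)) * φ c.1 = (b * ψ c) ⊗ₜ[R] (1 : K)
      rw [hψ, Algebra.TensorProduct.tmul_mul_tmul, one_mul]
  have hΨe : Ψ e₀ = 1 := includeLeft_injective M hM (by
    simp only [Algebra.TensorProduct.includeLeft_apply]
    rw [← hΨ, he₀', hΦe, Algebra.TensorProduct.one_def])
  let z : B ⊗[R] O := (1 : B) ⊗ₜ x - ψ x ⊗ₜ 1
  have hz : e₀ * z = 0 := hincl (by
    rw [map_mul, he₀', map_zero, he, hΨ]
    simp [Ψ, z, J])
  -- extend the derivation
  let D' : B ⊗[R] O →ₗ[B] N := LinearMap.liftBaseChange B D
  have hD' : ∀ p q, D' (p * q) = Ψ p • D' q + Ψ q • D' p := by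
    intro p q
    induction p with
    | zero => simp
    | add a b ha hb =>
      simp only [add_mul, map_add, ha, hb, add_smul, smul_add]
      abel
    | tmul b c =>
      induction q with
      | zero => simp
      | add a' b' ha hb =>
        simp only [mul_add, map_add, ha, hb, add_smul, smul_add]
        abel
      | tmul b' c' =>
        simp [D', Ψ, hD, smul_add, smul_smul]
        congr 2 <;> ring
  have h := hD' e₀ z
  rw [hz, map_zero, hΨe, one_smul] at h
  have hD1 : D 1 = 0 := by simpa using hD 1 1
  have hΨz : Ψ z = 0 := by simp [Ψ, z]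
  rw [hΨz, zero_smul, add_zero] at h
  simpa [D', z, hD1] using h.symm

include M in
theorem notMem_support [Algebra.Smooth R B] (hM : M ≤ nonZeroDivisors R) [Algebra.FiniteType R (integralClosure R L)]
    (φ : L →ₐ[R] B ⊗[R] K) (ψ : integralClosure R L →ₐ[R] B) (hψ : ∀ x, φ x.1 = ψ x ⊗ₜ 1)
    (P : PrimeSpectrum B) :
    PrimeSpectrum.comap ψ.toRingHom P ∈ Algebra.unramifiedLocus R (integralClosure R L) := by
  let q := PrimeSpectrum.comap ψ.toRingHom P
  let κ := q.asIdeal.ResidueField
  rw [Algebra.unramifiedLocus_eq_compl_support, Set.mem_compl_iff,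
    Module.mem_support_iff_nontrivial_residueField_tensorProduct, not_nontrivial_iff_subsingleton]
  let i : κ →+* P.asIdeal.ResidueField := Ideal.ResidueField.map q.asIdeal P.asIdeal ψ.toRingHom rfl
  have hi : ∀ a, i (algebraMap (integralClosure R L) κ a) = algebraMap B _ (ψ a) := fun a =>
    Ideal.ResidueField.map_algebraMap _ _ _ _ a
  let iR : κ →ₐ[R] P.asIdeal.ResidueField :=
    { toRingHom := i
      commutes' := fun r => by
        change i (algebraMap R κ r) = _
        rw [IsScalarTower.algebraMap_apply R (integralClosure R L) κ, hi, ψ.commutes,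
          ← IsScalarTower.algebraMap_apply] }
  refine subsingleton_of_forall_eq 0 fun v => ?_
  apply (Module.forall_dual_apply_eq_zero_iff κ v).mp
  intro f
  let g := (LinearMap.liftBaseChangeEquiv κ).symm f
  suffices g = 0 by
    have hf : f = 0 := (LinearMap.liftBaseChangeEquiv κ).symm.injective (by rw [map_zero]; exact this)
    rw [hf]; rfl
  apply (KaehlerDifferential.linearMapEquivDerivation R (integralClosure R L)).injective
  rw [map_zero]
  ext a
  let d := KaehlerDifferential.linearMapEquivDerivation R (integralClosure R L) g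
  apply i.injective
  rw [Derivation.zero_apply, map_zero]
  refine derivation_eq_zero M hM φ ψ hψ (iR.toLinearMap.comp d.toLinearMap) (fun a b => ?_) a
  change i (d (a * b)) = ψ a • i (d b) + ψ b • i (d a)
  rw [Derivation.leibniz, Algebra.smul_def, Algebra.smul_def, map_add, map_mul, map_mul, hi, hi,
    Algebra.smul_def, Algebra.smul_def]

end Point

end Groth.Agent.NeronEtale
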