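import Groth.Agent.NeronEtale.Alg
import Groth.Agent.NeronSpread.Ext
import Groth.Prelude.Def_Neron

/-!
# Néron models of finite étale schemes
-/

set_option autoImplicit false
set_option backward.isDefEq.respectTransparency false
set_option backward.isDefEq.respectTransparency.types false

universe u

open CategoryTheory CategoryTheory.Limits AlgebraicGeometry TensorProduct

noncomputable section

namespace Groth.Agent.NeronEtale

variable (R : Type u) [CommRing R] [IsDedekindDomain R] (L : Type u) [CommRing L]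
  [Algebra (FractionRing R) L] [Algebra R L] [IsScalarTower R (FractionRing R) L]
  [Algebra.Etale (FractionRing R) L]

/-- the spectrum of the integral closure -/
abbrev SO : Scheme.{u} := Spec (CommRingCat.of (integralClosure R L))

/-- the étale locus in the integral closure -/
def locus : (SO R L).Opens :=
  ⟨Algebra.etaleLocus R (integralClosure R L), by
    have := finitePresentation_closure R L
    exact Algebra.isOpen_etaleLocus⟩

/-- the structure morphism of the model -/
def str : (locus R L).toScheme ⟶ Spec (CommRingCat.of R) :=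
  (locus R L).ι ≫ Spec.map (CommRingCat.ofHom (algebraMap R (integralClosure R L)))

/-- the model -/
abbrev model : Over (Spec (CommRingCat.of R)) := Over.mk (str R L)

theorem etale_str : Etale (str R L) := by
  let O := integralClosure R L
  have hf : ∀ x : (locus R L).toScheme, ∃ f : O, (locus R L).ι x ∈ PrimeSpectrum.basicOpen f ∧
      (PrimeSpectrum.basicOpen f : Set (PrimeSpectrum O)) ⊆ Algebra.etaleLocus R O := fun x => by
    obtain ⟨_, ⟨_, ⟨f, rfl⟩, rfl⟩, hxf, hsub⟩ :=
      PrimeSpectrum.isBasis_basic_opens.exists_subset_of_mem_open (show (locus R L).ι x ∈ _ from x.2) (locus R L).2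
    exact ⟨f, hxf, hsub⟩
  choose f hxf hsub using hf
  let V : (locus R L).toScheme → (locus R L).toScheme.Opens := fun x =>
    (locus R L).ι ⁻¹ᵁ PrimeSpectrum.basicOpen (f x)
  refine IsZariskiLocalAtSource.of_iSup_eq_top (P := @Etale) V
    (TopologicalSpace.Opens.ext (Set.eq_univ_of_forall fun x => ?_)) fun x => ?_
  · exact TopologicalSpace.Opens.mem_iSup.2 ⟨x, hxf x⟩
  · let g := Spec.map (CommRingCat.ofHom (algebraMap O (Localization.Away (f x))))
    have hg : IsOpenImmersion g := IsOpenImmersion.of_isLocalization (f x)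
    have hr : Set.range ((V x).ι ≫ (locus R L).ι) = Set.range g := by
      rw [show Set.range g = (PrimeSpectrum.basicOpen (f x) : Set (PrimeSpectrum O)) from
        PrimeSpectrum.localization_away_comap_range _ _]
      ext p
      constructor
      · rintro ⟨y, rfl⟩
        rw [Scheme.Hom.comp_apply]
        exact y.2
      · intro hp
        exact ⟨⟨⟨p, hsub x hp⟩, hp⟩, rfl⟩
    let e := IsOpenImmersion.isoOfRangeEq ((V x).ι ≫ (locus R L).ι) g hr
    rw [str, ← Category.assoc, ← IsOpenImmersion.isoOfRangeEq_hom_fac ((V x).ι ≫ (locus R L).ι) g hr,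
      Category.assoc, MorphismProperty.cancel_left_of_respectsIso (P := @Etale), ← Spec.map_comp,
      HasRingHomProperty.Spec_iff (P := @Etale)]
    have := finitePresentation_closure R L
    have := Algebra.basicOpen_subset_etaleLocus_iff_etale.1 (hsub x)
    have e : (CommRingCat.ofHom (algebraMap R O) ≫
        CommRingCat.ofHom (algebraMap O (Localization.Away (f x)))).hom = algebraMap R (Localization.Away (f x)) :=
      (IsScalarTower.algebraMap_eq R O _).symm
    rw [e]
    exact RingHom.etale_algebraMap.2 this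

theorem isLocalization_closure :
    IsLocalization (Algebra.algebraMapSubmonoid (integralClosure R L) (nonZeroDivisors R)) L := by
  refine (isLocalization_iff _ _).2 ⟨?_, ?_, ?_⟩
  · rintro ⟨_, r, hr, rfl⟩
    rw [← IsScalarTower.algebraMap_apply R (integralClosure R L) L,
      IsScalarTower.algebraMap_apply R (FractionRing R) L]
    exact (IsLocalization.map_units (FractionRing R) (⟨r, hr⟩ : nonZeroDivisors R)).map _
  · intro x
    obtain ⟨r, hr, hx⟩ := exists_smul_mem R L x
    refine ⟨(⟨r • x, hx⟩, ⟨_, r, hr, rfl⟩), ?_⟩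
    change x * algebraMap (integralClosure R L) L (algebraMap R (integralClosure R L) r) = r • x
    rw [← IsScalarTower.algebraMap_apply, Algebra.smul_def, mul_comm]
  · intro x y h
    exact ⟨1, by simp [Subtype.ext h]⟩

/-- the generic points -/
def gen : Spec (CommRingCat.of L) ⟶ (locus R L).toScheme :=
  IsOpenImmersion.lift (locus R L).ι (Spec.map (CommRingCat.ofHom (algebraMap (integralClosure R L) L))) (by
    rw [Scheme.Opens.range_ι]
    rintro _ ⟨Q, rfl⟩
    have := isLocalization_closure R L
    let Q' : PrimeSpectrum L := Q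
    change Algebra.IsEtaleAt R (Q'.asIdeal.comap (algebraMap (integralClosure R L) L))
    have h := IsLocalization.isLocalization_isLocalization_atPrime_isLocalization
      (M := Algebra.algebraMapSubmonoid (integralClosure R L) (nonZeroDivisors R))
      (Localization.AtPrime Q'.asIdeal) Q'.asIdeal
    have : Algebra.FormallyEtale R (FractionRing R) := Algebra.FormallyEtale.of_isLocalization (nonZeroDivisors R)
    have : Algebra.FormallyEtale R L := Algebra.FormallyEtale.comp R (FractionRing R) L
    have : Algebra.FormallyEtale L (Localization.AtPrime Q'.asIdeal) :=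
      Algebra.FormallyEtale.of_isLocalization Q'.asIdeal.primeCompl
    have : Algebra.FormallyEtale R (Localization.AtPrime Q'.asIdeal) := Algebra.FormallyEtale.comp R L _
    exact Algebra.FormallyEtale.of_equiv
      ((IsLocalization.algEquiv (Q'.asIdeal.comap (algebraMap (integralClosure R L) L)).primeCompl
        (Localization.AtPrime Q'.asIdeal) (Localization.AtPrime _)).restrictScalars R))

theorem gen_ι : gen R L ≫ (locus R L).ι = Spec.map (CommRingCat.ofHom (algebraMap (integralClosure R L) L)) :=
  IsOpenImmersion.lift_fac _ _ _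

theorem isPullback_gen : IsPullback (gen R L) (Spec.map (CommRingCat.ofHom (algebraMap (FractionRing R) L)))
    (str R L) (Neron.genPt R) := by
  let O := integralClosure R L
  have : IsLocalization ((nonZeroDivisors R).map (algebraMap R O)) L := isLocalization_closure R L
  have h0 := isPullback_SpecMap_of_isPushout _ _ _ _ (CommRingCat.isPushout_of_isLocalization
    (algebraMap R O) (algebraMap (FractionRing R) L)
    (by rw [← IsScalarTower.algebraMap_eq, ← IsScalarTower.algebraMap_eq]) (nonZeroDivisors R)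
    (Sₘ := L))
  rw [← gen_ι] at h0
  refine IsPullback.mk' (by simpa [str] using h0.w) (fun T a b e₁ e₂ => h0.hom_ext (by rw [reassoc_of% e₁]) e₂)
    fun T a b e => ?_
  obtain ⟨c, hc₁, hc₂⟩ := h0.exists_lift (a ≫ (locus R L).ι) b (by rw [Category.assoc]; exact e)
  exact ⟨c, (cancel_mono (locus R L).ι).1 (by rw [Category.assoc, hc₁]), hc₂⟩

/-- the generic fibre of the model -/
def genIso : (Neron.genericFibre R).obj (model R L) ≅
    Over.mk (Spec.map (CommRingCat.ofHom (algebraMap (FractionRing R) L))) :=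
  Over.isoMk (isPullback_gen R L).isoPullback.symm (by simp)

theorem separated_qc : IsSeparated (str R L) ∧ QuasiCompact (str R L) := by
  have := finite_closure R L
  have : IsNoetherianRing (integralClosure R L) := IsNoetherianRing.of_finite R _
  refine ⟨by rw [str]; infer_instance, ?_⟩
  have : CompactSpace (locus R L).toScheme :=
    isCompact_iff_compactSpace.mp (TopologicalSpace.NoetherianSpace.isCompact _)
  exact (quasiCompact_iff_compactSpace _).mpr inferInstance

theorem exists_psi {B : Type u} [CommRing B] [Algebra R B] [Algebra.Smooth R B]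
    (φ : L →ₐ[R] B ⊗[R] FractionRing R) :
    ∃ ψ : integralClosure R L →ₐ[R] B, ∀ x, φ x.1 = ψ x ⊗ₜ 1 := by
  have hinj := includeLeft_injective (nonZeroDivisors R) (K := FractionRing R) (B := B) le_rfl
  have h : ∀ x : integralClosure R L, ∃ b : B, φ x.1 = b ⊗ₜ 1 := by
    intro x
    obtain ⟨z, hz⟩ := (TensorProduct.toIntegralClosure_bijective_of_smooth (R := R) (S := B)
      (B := FractionRing R)).2 ⟨φ x.1, (x.2.map φ).tower_top⟩
    have key : ∀ z : B ⊗[R] integralClosure R (FractionRing R), ∃ b : B,
        (Algebra.TensorProduct.map (AlgHom.id B B) (integralClosure R (FractionRing R)).val) z =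
          b ⊗ₜ[R] (1 : FractionRing R) := by
      intro z
      induction z with
      | zero => exact ⟨0, by simp⟩
      | add a b ha hb =>
        obtain ⟨a', ha⟩ := ha
        obtain ⟨b', hb⟩ := hb
        exact ⟨a' + b', by rw [map_add, ha, hb, TensorProduct.add_tmul]⟩
      | tmul b s =>
        obtain ⟨r, hr⟩ := IsIntegrallyClosed.isIntegral_iff.1 s.2
        refine ⟨r • b, ?_⟩
        rw [Algebra.TensorProduct.map_tmul, TensorProduct.smul_tmul, ← Algebra.algebraMap_eq_smul_one, hr]
        rfl
    obtain ⟨b, hb⟩ := key z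
    exact ⟨b, (congrArg Subtype.val hz).symm.trans hb⟩
  choose ψ hψ using h
  refine ⟨AlgHom.mk' (RingHom.mk' ⟨⟨ψ, hinj ?_⟩, fun a b => hinj ?_⟩ fun a b => hinj ?_) fun r a => hinj ?_, hψ⟩
  · exact (hψ 1).symm.trans ((map_one φ).trans Algebra.TensorProduct.one_def)
  · change ψ (a * b) ⊗ₜ[R] (1 : FractionRing R) = (ψ a * ψ b) ⊗ₜ[R] 1
    rw [← hψ, MulMemClass.coe_mul, map_mul, hψ, hψ, Algebra.TensorProduct.tmul_mul_tmul, one_mul]
  · change ψ (a + b) ⊗ₜ[R] (1 : FractionRing R) = (ψ a + ψ b) ⊗ₜ[R] 1
    rw [← hψ, AddMemClass.coe_add, map_add, hψ, hψ, TensorProduct.add_tmul]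
  · change ψ (r • a) ⊗ₜ[R] (1 : FractionRing R) = (r • ψ a) ⊗ₜ[R] 1
    rw [← hψ, SetLike.val_smul, map_smul, hψ, TensorProduct.smul_tmul']

/-- the Néron mapping property on an affine smooth scheme -/
theorem spec_uniq_extn (B : Type u) [CommRing B] [Algebra R B] [Algebra.Smooth R B] :
    NeronSpread.Uniq (𝟙 _) (Neron.genPt R) (str R L) (Spec.map (CommRingCat.ofHom (algebraMap R B))) ∧
      NeronSpread.Extn (𝟙 _) (Neron.genPt R) (str R L) (Spec.map (CommRingCat.ofHom (algebraMap R B))) := by
  let O := integralClosure R L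
  let K := FractionRing R
  let σ := pullbackSpecIso R B K
  have hinj := includeLeft_injective (nonZeroDivisors R) (K := K) (B := B) le_rfl
  constructor
  · intro g₁ g₂ h₁ h₂ h
    rw [← cancel_mono (locus R L).ι]
    obtain ⟨a₁, ha₁⟩ := Spec.map_surjective (g₁ ≫ (locus R L).ι)
    obtain ⟨a₂, ha₂⟩ := Spec.map_surjective (g₂ ≫ (locus R L).ι)
    rw [← ha₁, ← ha₂]
    congr 1
    have h' := congrArg (fun t => σ.inv ≫ t ≫ (locus R L).ι) h
    simp only [Category.assoc, ← ha₁, ← ha₂] at h'
    rw [pullbackSpecIso_inv_fst_assoc, pullbackSpecIso_inv_fst_assoc, ← Spec.map_comp, ← Spec.map_comp] at h'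
    ext x
    exact hinj (congrArg (fun t => t.hom x) (Spec.map_injective h'))
  · intro m hm
    obtain ⟨χ, hχ⟩ := Spec.map_surjective (σ.inv ≫ m ≫ (locus R L).ι)
    have hχR : ∀ r, χ.hom (algebraMap R O r) = algebraMap R (B ⊗[R] K) r := by
      have h1 : Spec.map χ ≫ Spec.map (CommRingCat.ofHom (algebraMap R O)) =
          Spec.map (CommRingCat.ofHom (algebraMap R (B ⊗[R] K))) := by
        rw [hχ, Category.assoc, Category.assoc]
        change σ.inv ≫ m ≫ str R L = _
        rw [hm, Category.comp_id, ← pullbackSpecIso_hom_base, Iso.inv_hom_id_assoc]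
      rw [← Spec.map_comp] at h1
      exact fun r => congrArg (fun t => t.hom r) (Spec.map_injective h1)
    let χ' : O →ₐ[R] B ⊗[R] K := { toRingHom := χ.hom, commutes' := hχR }
    have := isLocalization_closure R L
    have hu : ∀ y : Algebra.algebraMapSubmonoid O (nonZeroDivisors R), IsUnit (χ' y) := by
      rintro ⟨_, r, hr, rfl⟩
      rw [AlgHom.commutes, ← AlgHom.commutes (Algebra.TensorProduct.includeRight : K →ₐ[R] B ⊗[R] K) r]
      exact (IsLocalization.map_units K (⟨r, hr⟩ : nonZeroDivisors R)).map _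
    let φ : L →ₐ[R] B ⊗[R] K := IsLocalization.liftAlgHom hu
    have hφ : ∀ x : O, φ x.1 = χ' x := fun x => IsLocalization.lift_eq hu x
    obtain ⟨ψ, hψ⟩ := exists_psi R L φ
    have := finitePresentation_closure R L
    have := flat_closure R L
    have hr : Set.range (Spec.map (CommRingCat.ofHom ψ.toRingHom)) ⊆ Set.range (locus R L).ι := by
      rw [Scheme.Opens.range_ι]
      rintro _ ⟨P, rfl⟩
      let q := PrimeSpectrum.comap ψ.toRingHom P
      have : Algebra.IsUnramifiedAt R q.asIdeal := notMem_support (nonZeroDivisors R) le_rfl φ ψ hψ P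
      exact Algebra.IsEtaleAt.of_isUnramifiedAt_of_flat q.asIdeal
    refine ⟨IsOpenImmersion.lift (locus R L).ι (Spec.map (CommRingCat.ofHom ψ.toRingHom)) hr, ?_, ?_⟩
    · rw [str, IsOpenImmersion.lift_fac_assoc, ← Spec.map_comp, Category.comp_id]
      congr 1
      ext r
      exact ψ.commutes r
    · rw [← cancel_mono (locus R L).ι, Category.assoc, IsOpenImmersion.lift_fac, ← cancel_epi σ.inv,
        pullbackSpecIso_inv_fst_assoc, ← hχ, ← Spec.map_comp]
      congr 1
      ext x
      exact (hψ x).symm.trans (hφ x)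

theorem uniq_extn_affine (W : Scheme.{u}) [IsAffine W] (q : W ⟶ Spec (CommRingCat.of R)) (hq : Smooth q) :
    NeronSpread.Uniq (𝟙 _) (Neron.genPt R) (str R L) q ∧ NeronSpread.Extn (𝟙 _) (Neron.genPt R) (str R L) q := by
  obtain ⟨φ, hφ⟩ := Spec.map_surjective (W.isoSpec.inv ≫ q)
  algebraize [φ.hom]
  have hsm : Smooth (Spec.map φ) := by rw [hφ]; infer_instance
  have : Algebra.Smooth R Γ(W, ⊤) := RingHom.smooth_algebraMap.1 ((HasRingHomProperty.Spec_iff (P := @Smooth)).1 hsm)
  obtain ⟨hu, he⟩ := spec_uniq_extn R L Γ(W, ⊤)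
  have hq' : q = W.isoSpec.hom ≫ Spec.map (CommRingCat.ofHom (algebraMap R Γ(W, ⊤))) := by
    rw [show CommRingCat.ofHom (algebraMap R Γ(W, ⊤)) = φ from rfl, hφ, Iso.hom_inv_id_assoc]
  subst hq'
  let s := Spec.map (CommRingCat.ofHom (algebraMap R Γ(W, ⊤)))
  let back : pullback s (Neron.genPt R) ⟶ pullback (W.isoSpec.hom ≫ s) (Neron.genPt R) :=
    pullback.lift (pullback.fst _ _ ≫ W.isoSpec.inv) (pullback.snd _ _) (by simp [pullback.condition])
  have hb : back ≫ pullback.fst (W.isoSpec.hom ≫ s) (Neron.genPt R) = pullback.fst _ _ ≫ W.isoSpec.inv :=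
    pullback.lift_fst _ _ _
  constructor
  · intro g₁ g₂ h₁ h₂ h
    rw [← cancel_epi W.isoSpec.inv]
    refine hu _ _ ?_ ?_ ?_
    · simp [h₁]
    · simp [h₂]
    · rw [← reassoc_of% hb, ← reassoc_of% hb, h]
  · intro m hm
    obtain ⟨g, hg, hgm⟩ := he (back ≫ m) (by rw [Category.assoc, hm, reassoc_of% hb]; simp [s])
    refine ⟨W.isoSpec.hom ≫ g, by simp [hg], ?_⟩
    let fw : pullback (W.isoSpec.hom ≫ s) (Neron.genPt R) ⟶ pullback s (Neron.genPt R) :=
      pullback.lift (pullback.fst _ _ ≫ W.isoSpec.hom) (pullback.snd _ _) (by simp [pullback.condition])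
    have hfb : fw ≫ back = 𝟙 _ := by apply pullback.hom_ext <;> simp [fw, back]
    have hfw : fw ≫ pullback.fst s (Neron.genPt R) = pullback.fst _ _ ≫ W.isoSpec.hom := pullback.lift_fst _ _ _
    rw [← reassoc_of% hfw, hgm, reassoc_of% hfb]

theorem isNeronModelOf : Neron.IsNeronModelOf R (model R L)
    (Over.mk (Spec.map (CommRingCat.ofHom (algebraMap (FractionRing R) L)))) (genIso R L) ∧
    Etale (str R L) ∧ LocallyQuasiFinite (str R L) := by
  have := etale_str R L
  have := finite_closure R L
  have : IsFinite (Spec.map (CommRingCat.ofHom (algebraMap R (integralClosure R L)))) :=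
    (IsFinite.SpecMap_iff _).2 (RingHom.finite_algebraMap.2 ‹_›)
  refine ⟨⟨(inferInstance : Smooth (str R L)), (separated_qc R L).1, (inferInstance : LocallyOfFiniteType (str R L)),
    (separated_qc R L).2, fun Y hY => ?_⟩, etale_str R L, by rw [str]; infer_instance⟩
  refine (show Function.Bijective (fun c : (Neron.genericFibre R).obj Y ⟶ _ => c ≫ (genIso R L).hom) from ?_).comp
    ((NeronSpread.bijective_iff_id (Neron.genPt R) Y (model R L)).2 ⟨?_, ?_⟩)
  · exact ⟨fun a b h => (cancel_mono (genIso R L).hom).1 h, fun c => ⟨c ≫ (genIso R L).inv, by simp⟩⟩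
  · exact NeronSpread.uniq_of_affine _ _ _ (fun W _ q hq => (uniq_extn_affine R L W q hq).1) Y.hom
  · exact NeronSpread.extn_of_affine _ _ _ (fun W _ q hq => (uniq_extn_affine R L W q hq).1)
      (fun W _ q hq => (uniq_extn_affine R L W q hq).2) Y.hom

theorem exists_model (R : Type u) [CommRing R] [IsDedekindDomain R]
    (G : Over (Spec (CommRingCat.of (FractionRing R)))) [IsFinite G.hom] [Etale G.hom] :
    ∃ (N : Over (Spec (CommRingCat.of R))) (e : (Neron.genericFibre R).obj N ≅ G),
      Neron.IsNeronModelOf R N G e ∧ Etale N.hom ∧ LocallyQuasiFinite N.hom := by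
  have : IsAffine G.left := isAffine_of_isAffineHom G.hom
  obtain ⟨φ, hφ⟩ := Spec.map_surjective (G.left.isoSpec.inv ≫ G.hom)
  let L : Type u := Γ(G.left, ⊤)
  algebraize [φ.hom]
  letI : Algebra R L := ((algebraMap (FractionRing R) L).comp (algebraMap R _)).toAlgebra
  haveI : IsScalarTower R (FractionRing R) L := IsScalarTower.of_algebraMap_eq' rfl
  have het : Etale (Spec.map φ) := by rw [hφ]; infer_instance
  haveI : Algebra.Etale (FractionRing R) L :=
    RingHom.etale_algebraMap.1 ((HasRingHomProperty.Spec_iff (P := @Etale)).1 het)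
  obtain ⟨⟨h1, h2, h3, h4, h5⟩, h6, h7⟩ := isNeronModelOf R L
  let eG : Over.mk (Spec.map (CommRingCat.ofHom (algebraMap (FractionRing R) L))) ≅ G :=
    Over.isoMk G.left.isoSpec.symm (by change G.left.isoSpec.inv ≫ G.hom = Spec.map φ; exact hφ.symm)
  refine ⟨model R L, genIso R L ≪≫ eG, ⟨h1, h2, h3, h4, fun Y hY => ?_⟩, h6, h7⟩
  have := Function.Bijective.comp
    (show Function.Bijective (fun c : (Neron.genericFibre R).obj Y ⟶ _ => c ≫ eG.hom) from
      ⟨fun a b h => (cancel_mono eG.hom).1 h, fun c => ⟨c ≫ eG.inv, by simp⟩⟩) (h5 Y hY)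
  simpa [Function.comp_def] using this

end Groth.Agent.NeronEtale
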